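import Cfsg.Agent.Lib.AlperinTame.Basic
import Cfsg.Agent.Lib.ConjFunctor.Basic
import Cfsg.Agent.Lib.SylowAux58.Basic
import Cfsg.Agent.Lib.KBalance.Components

/-!
Isolation of a central element `r` of a Sylow `p`-subgroup `P`, from a condition on
the subgroups `T ∋ r` of `P` that are fully normalised and satisfy `C_P(T) ≤ T`.
-/

set_option autoImplicit false

namespace Cfsg.Agent.Lib.LBalanceTwo

open Subgroup ConjFunctor
open AlperinTame (TameSteps rightConj exists_tameSteps exists_sylow_max mem_smul_sylow)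

variable {G : Type*} [Group G] [Finite G] {p : ℕ} [Fact p.Prime]

/-- A Sylow subgroup of `N` meets a subgroup `H ≤ N` normalised by `N` in a Sylow subgroup. -/
theorem not_dvd_relIndex_of_normalized {N H B : Subgroup G} (hBN : B ≤ N) (hB : IsPGroup p B)
    (hi : ¬ p ∣ B.relIndex N) (hHN : H ≤ N) (hn : N ≤ normalizer (H : Set G)) :
    ¬ p ∣ B.relIndex H := by
  haveI : (H.subgroupOf N).Normal := normal_subgroupOf_of_le_normalizer hn
  let B' : Sylow p N := (hB.comap_subtype (K := N)).toSylow hi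
  have h := SylowAux58.not_dvd_relIndex_normal B' (H.subgroupOf N)
  have hB' : (B' : Subgroup N) = B.subgroupOf N := rfl
  rwa [hB', relIndex_subgroupOf hHN] at h

/-- A `p`-subgroup that is not Sylow in `H` is normalised by a strictly bigger one of `H`. -/
theorem exists_gt_normalized {T H : Subgroup G} (hTH : T ≤ H) (hT : IsPGroup p T)
    (hd : p ∣ T.relIndex H) :
    ∃ W : Subgroup G, W ≤ H ∧ IsPGroup p W ∧ T < W ∧ W ≤ normalizer (T : Set G) := by
  obtain ⟨S, hTS, hSH, hS, hSi⟩ := exists_sylow_above hTH hT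
  have hlt : T < S := lt_of_le_of_ne hTS fun h => hSi (h ▸ hd)
  exact ⟨S ⊓ normalizer (T : Set G), inf_le_left.trans hSH, hS.to_le inf_le_left,
    ConjFunctor.lt_inf_normalizer hS hlt, inf_le_right⟩

omit [Fact p.Prime] in
/-- A chain of tame steps fixes `r` when the normalisers of all large subgroups of `P` do. -/
theorem fix_of_tameSteps {P : Sylow p G} {A : Set G} {g r : G} {n : ℕ} (h : TameSteps P A g)
    (hD : ∀ D : Subgroup G, D ≤ (P : Subgroup G) → n ≤ Nat.card D → r ∈ D →
      ∀ x ∈ normalizer (D : Set G), x * r * x⁻¹ = r) :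
    n ≤ Nat.card A → r ∈ A → g⁻¹ * r * g = r := by
  induction h with
  | nil A => intro _ _; simp
  | @cons A g Q x hQ hA hx hxp _ ih =>
    intro hn hr
    have h1 : x⁻¹ * r * x = r := by
      have := hD _ inf_le_left (hn.trans (Nat.card_mono (Set.toFinite _) hA)) (hA hr) x⁻¹
        (inv_mem hx)
      rwa [inv_inv] at this
    have hinj : Function.Injective fun a : G => x⁻¹ * a * x := fun a b hab =>
      mul_left_cancel (mul_right_cancel hab)
    have h2 : g⁻¹ * r * g = r := by
      refine ih ?_ ⟨r, hr, h1⟩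
      rw [show rightConj x A = (fun a : G => x⁻¹ * a * x) '' A from rfl,
        Nat.card_image_of_injective hinj]
      exact hn
    rw [show (x * g)⁻¹ * r * (x * g) = g⁻¹ * (x⁻¹ * r * x) * g by group, h1, h2]

/-- The fully normalised case. -/
theorem fix_of_normalized (P : Sylow p G) {r : G} {T : Subgroup G} (hT : T ≤ (P : Subgroup G))
    (hr : r ∈ T) (hfn : ¬ p ∣ ((P : Subgroup G) ⊓ normalizer (T : Set G)).relIndex
      (normalizer (T : Set G)))
    (IH : ∀ D : Subgroup G, D ≤ (P : Subgroup G) → Nat.card T < Nat.card D → r ∈ D →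
      ∀ x ∈ normalizer (D : Set G), x * r * x⁻¹ = r)
    (hcentric : (P : Subgroup G) ⊓ centralizer (T : Set G) ≤ T →
      ∀ x ∈ normalizer (T : Set G), x * r * x⁻¹ = r)
    {x : G} (hx : x ∈ normalizer (T : Set G)) : x * r * x⁻¹ = r := by
  set N := normalizer (T : Set G) with hN
  set C := centralizer (T : Set G) with hC
  by_cases hCT : (P : Subgroup G) ⊓ C ≤ T
  · exact hcentric hCT x hx
  set Q := (P : Subgroup G) ⊓ C with hQ
  have hQp : IsPGroup p Q := P.2.to_le inf_le_left
  have hCN : C ≤ N := Components.centralizer_le_normalizer_self T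
  have hNC : N ≤ normalizer (C : Set G) := fun y hy =>
    KBalance.mem_normalizer_of_centralizer hy
  have hQi : ¬ p ∣ Q.relIndex C := by
    have := not_dvd_relIndex_of_normalized (inf_le_right : (P : Subgroup G) ⊓ N ≤ N)
      (P.2.to_le inf_le_left) hfn hCN hNC
    rw [← inf_relIndex_right] at this
    rwa [show (P : Subgroup G) ⊓ N ⊓ C = Q by
      rw [inf_assoc, inf_eq_right.mpr hCN]] at this
  have hxC : cj x C = C := mem_normalizer_iff_cj.mp (hNC hx)
  obtain ⟨c, hc, hle⟩ := exists_conj_le (P := cj x Q) ((cj_mono x inf_le_right).trans hxC.le)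
    (isPGroup_cj x hQp) (inf_le_right : Q ≤ C) hQp hQi
  rw [cj_cj] at hle
  have hcx : cj (c * x) Q = Q := Subgroup.eq_of_le_of_card_ge hle (card_cj _ _).ge
  have hmT : c * x ∈ N := N.mul_mem (hCN hc) hx
  have hm : c * x ∈ normalizer ((T ⊔ Q : Subgroup G) : Set G) := by
    rw [mem_normalizer_iff_cj, cj, Subgroup.map_sup]
    exact congrArg₂ (· ⊔ ·) (mem_normalizer_iff_cj.mp hmT) hcx
  have hlt : T < T ⊔ Q := by
    refine lt_of_le_of_ne le_sup_left fun h => hCT ?_
    rw [h]
    exact le_sup_right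
  have h1 := IH (T ⊔ Q) (sup_le hT inf_le_left) (card_lt_card_of_lt hlt)
    (mem_sup_left hr) _ hm
  have h2 : r * c = c * r := mem_centralizer_iff.mp hc r hr
  calc x * r * x⁻¹ = c⁻¹ * ((c * x) * r * (c * x)⁻¹) * c := by group
    _ = c⁻¹ * r * c := by rw [h1]
    _ = c⁻¹ * (r * c) := by group
    _ = r := by rw [h2]; group

/-- `N(T)` fixes `r` for all `r ∈ T ≤ P`. -/
theorem fix_of_centric (P : Sylow p G) {r : G}
    (hcentric : ∀ T : Subgroup G, T ≤ (P : Subgroup G) → r ∈ T →
      ¬ p ∣ ((P : Subgroup G) ⊓ normalizer (T : Set G)).relIndex (normalizer (T : Set G)) →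
      (P : Subgroup G) ⊓ centralizer (T : Set G) ≤ T →
      ∀ x ∈ normalizer (T : Set G), x * r * x⁻¹ = r) :
    ∀ (d : ℕ) (T : Subgroup G), Nat.card (P : Subgroup G) - Nat.card T = d →
      T ≤ (P : Subgroup G) → r ∈ T → ∀ x ∈ normalizer (T : Set G), x * r * x⁻¹ = r := by
  intro d
  induction d using Nat.strong_induction_on with
  | _ d ih =>
  intro T hd hTP hr x hx
  have IH : ∀ D : Subgroup G, D ≤ (P : Subgroup G) → Nat.card T < Nat.card D → r ∈ D →
      ∀ x ∈ normalizer (D : Set G), x * r * x⁻¹ = r := by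
    intro D hDP hlt hrD
    refine ih _ ?_ D rfl hDP hrD
    have := card_le_of_le hDP
    omega
  set N := normalizer (T : Set G) with hN
  by_cases hfn : ¬ p ∣ ((P : Subgroup G) ⊓ N).relIndex N
  · exact fix_of_normalized P hTP hr hfn IH (hcentric T hTP hr hfn) hx
  rw [not_not] at hfn
  have hne : T ≠ (P : Subgroup G) := by
    intro h
    subst h
    rw [inf_eq_left.mpr (le_normalizer)] at hfn
    exact P.not_dvd_index (hfn.trans (relIndex_dvd_index_of_le le_normalizer))
  obtain ⟨S, hAS, hSmax⟩ := exists_sylow_max (inf_le_right : (P : Subgroup G) ⊓ N ≤ N)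
    (P.2.to_le inf_le_left)
  obtain ⟨h, hhS⟩ := MulAction.exists_smul_eq G P S
  have hmemS : ∀ a, a ∈ (S : Subgroup G) → h⁻¹ * a * h ∈ (P : Subgroup G) := by
    intro a ha
    rw [← hhS] at ha
    exact mem_smul_sylow.mp ha
  have hsteps : TameSteps P (((P : Subgroup G) ⊓ N : Subgroup G) : Set G) h := by
    refine exists_tameSteps P _ h (fun a ha => ha.1) ?_
    rintro _ ⟨a, ha, rfl⟩
    exact hmemS a (hAS ha)
  have hTA : T < (P : Subgroup G) ⊓ N :=
    ConjFunctor.lt_inf_normalizer P.2 (lt_of_le_of_ne hTP hne)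
  have hrh : h⁻¹ * r * h = r := by
    refine fix_of_tameSteps (n := Nat.card ((P : Subgroup G) ⊓ N : Subgroup G)) hsteps
      (fun D hDP hn hrD => IH D hDP (lt_of_lt_of_le (card_lt_card_of_lt hTA) hn) hrD) le_rfl
      (hTA.le hr)
  set T' := cj h⁻¹ T with hT'
  have hT'P : T' ≤ (P : Subgroup G) := by
    intro y hy
    rw [hT', mem_cj, inv_inv] at hy
    have := hmemS _ (hAS (hTA.le hy))
    simpa [mul_assoc] using this
  have hrT' : r ∈ T' := by
    have := conj_mem_cj (g := h⁻¹) hr
    rwa [inv_inv, hrh] at this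
  have hN' : normalizer (T' : Set G) = cj h⁻¹ N := normalizer_cj _ _
  have hfn' : ¬ p ∣ ((P : Subgroup G) ⊓ normalizer (T' : Set G)).relIndex
      (normalizer (T' : Set G)) := by
    refine AlperinTame.not_dvd_relIndex_of_max inf_le_right (P.2.to_le inf_le_left) ?_
    intro K hK hKp
    have h1 : cj h K ≤ N := by
      rw [hN'] at hK
      have := cj_mono h hK
      rwa [cj_cj_inv] at this
    rw [← card_cj h K]
    refine (hSmax _ h1 (isPGroup_cj h hKp)).trans ?_
    rw [← card_cj h⁻¹ ((S : Subgroup G) ⊓ N)]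
    refine card_le_of_le (le_inf ?_ (hN' ▸ cj_mono _ inf_le_right))
    refine cj_le_iff.mpr fun a ha => ?_
    rw [inv_inv]
    exact hmemS a ha.1
  have hx' : h⁻¹ * x * h ∈ normalizer (T' : Set G) := by
    rw [hN']
    have := conj_mem_cj (g := h⁻¹) hx
    rwa [inv_inv] at this
  have IH' : ∀ D : Subgroup G, D ≤ (P : Subgroup G) → Nat.card T' < Nat.card D → r ∈ D →
      ∀ x ∈ normalizer (D : Set G), x * r * x⁻¹ = r := fun D hD hlt => IH D hD (by
    rwa [hT', card_cj] at hlt)
  have h3 := fix_of_normalized P hT'P hrT' hfn' IH' (hcentric T' hT'P hrT' hfn') hx'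
  have hr' : h * r * h⁻¹ = r := by
    conv_lhs => rw [← hrh]
    group
  calc x * r * x⁻¹ = x * (h * r * h⁻¹) * x⁻¹ := by rw [hr']
    _ = h * ((h⁻¹ * x * h) * r * (h⁻¹ * x * h)⁻¹) * h⁻¹ := by group
    _ = h * r * h⁻¹ := by rw [h3]
    _ = r := hr'

/-- An element of `P` fixed by the normalisers of the fully normalised centric subgroups of `P`
containing it is isolated in `P`. -/
theorem isolated_of_centric (P : Sylow p G) {r : G} (hr : r ∈ P)
    (hcentric : ∀ T : Subgroup G, T ≤ (P : Subgroup G) → r ∈ T →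
      ¬ p ∣ ((P : Subgroup G) ⊓ normalizer (T : Set G)).relIndex (normalizer (T : Set G)) →
      (P : Subgroup G) ⊓ centralizer (T : Set G) ≤ T →
      ∀ x ∈ normalizer (T : Set G), x * r * x⁻¹ = r)
    {g : G} (hg : g * r * g⁻¹ ∈ P) : g * r * g⁻¹ = r := by
  have hsteps : TameSteps P ({r} : Set G) g⁻¹ := by
    refine exists_tameSteps P _ _ (by simpa using hr) ?_
    rintro _ ⟨a, rfl, rfl⟩
    simpa using hg
  have := fix_of_tameSteps (n := 0) hsteps
    (fun D hD _ hrD => fix_of_centric P hcentric _ D rfl hD hrD) (Nat.zero_le _) rfl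
  simpa using this

end Cfsg.Agent.Lib.LBalanceTwo
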