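import Cfsg.Agent.Lib.LBalanceTwo.Key
import Cfsg.Agent.Lib.KBalance.LBalance

/-!
2-components of 2-local subgroups lie in `F*(X)` when `O(X) = 1`.
-/

set_option autoImplicit false

namespace Cfsg.Agent.Lib.LBalanceTwo

open Subgroup

universe u

variable {X : Type u} [Group X] [Finite X]

theorem coreIn_eq_bot_of_normal (hO : Cfsg.pPrimeCore 2 X = ⊥) (N : Subgroup X) [hN : N.Normal] :
    KBalance.coreIn 2 N = ⊥ := by
  haveI : Fact (Nat.Prime 2) := ⟨Nat.prime_two⟩
  haveI : (KBalance.coreIn 2 N).Normal := normalizer_eq_top_iff.mp (top_le_iff.mp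
    ((normalizer_eq_top_iff.mpr hN).ge.trans (KBalance.normalizer_le_normalizer_coreIn N)))
  exact le_bot_iff.mp (hO ▸ PSolvable.le_pPrimeCore (KBalance.coprime_coreIn N))

/-- The case in which `K` centralises a Sylow 2-subgroup of `F*(X)`. -/
theorem le_generalizedFitting_of_sylow (hO : Cfsg.pPrimeCore 2 X = ⊥) {K S : Subgroup X}
    (hK : ⁅K, K⁆ = K) (hKp : Cfsg.pElementClosure 2 K = K) (hcent : K ≤ centralizer (S : Set X))
    (hSF : S ≤ Cfsg.generalizedFittingSubgroup X) (hS : IsPGroup 2 S)
    (hi : ¬ 2 ∣ S.relIndex (Cfsg.generalizedFittingSubgroup X)) :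
    K ≤ Cfsg.generalizedFittingSubgroup X := by
  haveI := Components.generalizedFittingSubgroup_normal (G := X)
  refine le_trans ?_ Components.centralizer_generalizedFittingSubgroup_le
  rw [← hKp, Cfsg.pElementClosure, closure_le]
  rintro q ⟨hq, k, hk⟩
  refine mem_centralizer_iff.mpr fun l hl => ?_
  have h := commutator_mem_coreIn (by simp [normalizer_eq_top]) hK hcent hSF hS hi hq hk hl
  rw [coreIn_eq_bot_of_normal hO, mem_bot, mul_inv_eq_one, mul_inv_eq_iff_eq_mul] at h
  exact h.symm

theorem exists_bigger_in_normalizer (hp : Fact (Nat.Prime 2)) {R F : Subgroup X} [F.Normal]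
    (hR : IsPGroup 2 R) (hi : 2 ∣ (R ⊓ F).relIndex F) :
    ∃ W : Subgroup X, W ≤ F ⊓ normalizer (R : Set X) ∧ IsPGroup 2 W ∧ R ⊓ F < W := by
  obtain ⟨P, hRP, hPH, hP, hPi⟩ :=
    ConjFunctor.exists_sylow_above (le_sup_left : R ≤ R ⊔ F) hR
  have hFi := not_dvd_relIndex_of_normalized hPH hP hPi le_sup_right
    (by simp [normalizer_eq_top])
  have hlt : R < P := lt_of_le_of_ne hRP fun h => by
    subst h
    rw [← inf_relIndex_right] at hFi
    exact hFi hi
  have hW := ConjFunctor.lt_inf_normalizer hP hlt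
  refine ⟨P ⊓ normalizer (R : Set X) ⊓ F, le_inf inf_le_right (inf_le_left.trans inf_le_right),
    hP.to_le (inf_le_left.trans inf_le_left), lt_of_le_of_ne (inf_le_inf_right F hW.le) fun h => ?_⟩
  obtain ⟨y, hy, hyR⟩ := SetLike.exists_of_lt hW
  obtain ⟨r, hr, f, hf, hrf⟩ := mem_sup_of_normal_right.mp (hPH hy.1)
  apply hyR
  rw [← hrf]
  refine R.mul_mem hr (h.ge ⟨?_, hf⟩).1
  rw [show f = r⁻¹ * y by rw [← hrf]; group]
  exact Subgroup.mul_mem _ (Subgroup.inv_mem _ (hW.le hr)) hy

/-- With `O(X) = 1`, the 2-components of `N(R)` lie in `F*(X)` for every 2-subgroup `R`. -/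
theorem isPComponent_normalizer_le (hO : Cfsg.pPrimeCore 2 X = ⊥) :
    ∀ (n : ℕ) (R : Subgroup X), Nat.card (Cfsg.generalizedFittingSubgroup X) -
        Nat.card (R ⊓ Cfsg.generalizedFittingSubgroup X : Subgroup X) = n → IsPGroup 2 R →
      ∀ K : Subgroup (normalizer (R : Set X)), Cfsg.IsPComponent 2 K →
        K.map (normalizer (R : Set X)).subtype ≤ Cfsg.generalizedFittingSubgroup X := by
  haveI hp : Fact (Nat.Prime 2) := ⟨Nat.prime_two⟩
  haveI := Components.generalizedFittingSubgroup_normal (G := X)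
  intro n
  induction n using Nat.strong_induction_on with
  | _ n ih =>
  intro R hn hR
  set F := Cfsg.generalizedFittingSubgroup X with hF
  set Y := normalizer (R : Set X) with hY
  intro K hK
  have hKR : K.map Y.subtype ≤ centralizer (R : Set X) :=
    ((map_mono (Components.isPComponent_le_pLayer hK)).trans
      (Components.pLayer_map_le_localLayer Y)).trans
      (Components.localLayer_le_centralizer le_normalizer le_rfl hR)
  by_cases hi : ¬ 2 ∣ (R ⊓ F).relIndex F
  · refine le_generalizedFitting_of_sylow hO ?_ ?_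
      (hKR.trans (centralizer_le inf_le_left)) inf_le_right (hR.to_le inf_le_left) hi
    · rw [← map_commutator, Components.isPComponent_commutator_self hK]
    · rw [← Components.pElementClosure_map_injective Y.subtype_injective,
        Components.isPComponent_pElementClosure_self hK]
  rw [not_not] at hi
  obtain ⟨W, hW, hW2, hlt⟩ := exists_bigger_in_normalizer hp hR hi
  set O := Cfsg.pPrimeCore 2 Y with hOY
  set π := QuotientGroup.mk' O with hπ
  set Kb := K.map π with hKb
  have hKbc : Cfsg.IsComponent Kb := hK.2.1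
  set D := F.subgroupOf Y with hD
  haveI hDn : D.Normal := by rw [hD]; infer_instance
  suffices hle : Kb ≤ D.map π by
    have h := Components.isPComponent_le_of_map_le hK hDn.isSubnormal hle
    exact map_le_iff_le_comap.mpr fun x hx => h hx
  refine (Components.isComponent_le_or_commutator_eq_bot hKbc
    (hDn.map π (QuotientGroup.mk'_surjective O)).isSubnormal).elim id fun hKD => ?_
  -- the bigger group `R ⊔ W`
  set R1 := R ⊔ W with hR1
  have hWY : W ≤ Y := hW.trans inf_le_right
  have hR1p : IsPGroup 2 R1 := hR.to_sup_of_normal_left' hW2 hWY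
  have hR1Y : R1 ≤ Y := sup_le le_normalizer hWY
  set CR := centralizer (R1 : Set X) with hCR
  have hCY : CR ≤ Y :=
    (centralizer_le (show R ≤ R1 from le_sup_left)).trans
      (Components.centralizer_le_normalizer_self R)
  set Y1 := normalizer (R1 : Set X) with hY1
  have hCY1 : CR ≤ Y1 := Components.centralizer_le_normalizer_self R1
  haveI hCn : (CR.subgroupOf Y1).Normal :=
    normal_subgroupOf_of_le_normalizer fun y hy => KBalance.mem_normalizer_of_centralizer hy
  -- `π(R1)` is centralised by `Kb`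
  have hcen : Kb ≤ centralizer ((R1.subgroupOf Y).map π : Set (↥Y ⧸ O)) := by
    intro k hk
    have h1 : R1 ≤ ((centralizer ({k} : Set (↥Y ⧸ O))).comap π).map Y.subtype := by
      refine sup_le (fun r hr => ⟨⟨r, le_normalizer hr⟩, ?_, rfl⟩)
        fun w hw => ⟨⟨w, hWY hw⟩, ?_, rfl⟩
      · obtain ⟨a, ha, rfl⟩ := hk
        refine mem_centralizer_singleton_iff.mpr ?_
        rw [← map_mul, ← map_mul]
        congr 1
        exact Subtype.ext (mem_centralizer_iff.mp (hKR ⟨a, ha, rfl⟩) r hr)
      · exact mem_centralizer_singleton_iff.mpr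
          (mem_centralizer_iff.mp (commutator_eq_bot_iff_le_centralizer.mp hKD hk) _
            ⟨⟨w, hWY hw⟩, (hW hw).1, rfl⟩)
    refine mem_centralizer_iff.mpr ?_
    rintro _ ⟨x, hx, rfl⟩
    obtain ⟨x', hx', hxe⟩ := h1 hx
    rw [show x = x' from Subtype.ext hxe.symm]
    exact mem_centralizer_singleton_iff.mp hx'
  have hcen' : Kb ≤ (centralizer ((R1.subgroupOf Y : Subgroup Y) : Set Y)).map π :=
    hcen.trans (PSolvable.centralizer_map_mk' O PSolvable.pPrimeCore_coprime
      (hR1p.comap_subtype (K := Y))).le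
  -- the part of `K O(Y)` centralising `R1`, in `N(R1)`
  let j : CR.subgroupOf Y1 →* Y :=
    (Y1.subtype.comp (CR.subgroupOf Y1).subtype).codRestrict Y fun x => hCY x.2
  set A := (Kb.comap π).comap j with hA
  set C1 := A.map (CR.subgroupOf Y1).subtype with hC1
  have hAsub : A.IsSubnormal := (hKbc.1.comap π).comap j
  have hC1sub : C1.IsSubnormal := hAsub.trans' hCn.isSubnormal
  let ψ : C1 →* ↥Y ⧸ O := π.comp ((Y1.subtype.comp C1.subtype).codRestrict Y fun x => by
    obtain ⟨a, _, ha⟩ := x.2
    exact hCY (show ((x : Y1) : X) ∈ CR from ha ▸ a.2))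
  have hψ : ψ.range = Kb := by
    refine le_antisymm ?_ fun k hk => ?_
    · rintro _ ⟨⟨_, a, ha, rfl⟩, rfl⟩
      exact ha
    · obtain ⟨g, hg, rfl⟩ := hcen' hk
      have hgC : (g : X) ∈ CR := mem_centralizer_iff.mpr fun r hr => congrArg Subtype.val
        (mem_centralizer_iff.mp hg ⟨r, hR1Y hr⟩ hr)
      exact ⟨⟨⟨g, hCY1 hgC⟩, ⟨⟨g, hCY1 hgC⟩, hgC⟩, hk, rfl⟩, rfl⟩
  -- the new 2-component
  set K1 := Cfsg.pElementClosure 2 C1 with hK1
  have hK1sub : K1.IsSubnormal := Components.pElementClosure_isSubnormal hC1sub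
  let θ : K1 →* ↥Y ⧸ O := ψ.comp (Subgroup.inclusion (Components.pElementClosure_le C1))
  have hθ : θ.range = Kb := by
    have h1 : (Cfsg.pElementClosure 2 (⊤ : Subgroup C1)).map ψ = Kb := by
      rw [Components.map_pElementClosure, ← MonoidHom.range_eq_map, hψ]
      exact Components.quasisimple_subgroup_pElementClosure hKbc.2
        (Components.isComponent_dvd_card PSolvable.pPrimeCore_quotient_eq_bot hKbc)
    have h2 : (Cfsg.pElementClosure 2 (⊤ : Subgroup C1)).map C1.subtype = K1 := by
      rw [Components.map_pElementClosure, ← MonoidHom.range_eq_map, range_subtype]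
    rw [show θ = ψ.comp (Subgroup.inclusion (Components.pElementClosure_le C1)) from rfl,
      MonoidHom.range_comp, ← h1]
    congr 1
    apply Subgroup.map_injective C1.subtype_injective
    rw [h2, ← MonoidHom.range_comp, subtype_comp_inclusion, range_subtype]
  have hθker : θ.ker = Cfsg.pPrimeCore 2 K1 := by
    refine le_antisymm (PSolvable.le_pPrimeCore ?_) ?_
    · refine (PSolvable.pPrimeCore_coprime (p := 2) (G := Y)).coprime_dvd_left ?_
      let f : θ.ker →* O :=
        (((Y1.subtype.comp K1.subtype).comp θ.ker.subtype).codRestrict Y fun x => by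
          obtain ⟨a, _, ha⟩ := Components.pElementClosure_le C1 x.1.2
          exact hCY (show (((x : K1) : Y1) : X) ∈ CR from ha ▸ a.2)).codRestrict O
          fun x => (QuotientGroup.eq_one_iff _).mp x.2
      exact card_dvd_of_injective f fun a b h => Subtype.ext (Subtype.ext (Subtype.ext
        (congrArg (fun z : O => ((z : Y) : X)) h)))
    · rw [← Subgroup.map_eq_bot_iff, eq_bot_iff]
      refine le_trans ?_ (PSolvable.pPrimeCore_quotient_eq_bot (p := 2) (G := Y)).le
      have hm : (Cfsg.pPrimeCore 2 K1).map θ.rangeRestrict ≤ Cfsg.pPrimeCore 2 θ.range :=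
        PSolvable.map_pPrimeCore_le θ.rangeRestrict_surjective
      refine le_trans ?_ (Components.map_pPrimeCore_le_of_subnormal (p := 2)
        (K := θ.range) (hθ ▸ hKbc.1))
      rintro _ ⟨x, hx, rfl⟩
      exact ⟨θ.rangeRestrict x, hm ⟨x, hx, rfl⟩, rfl⟩
  have hK1c : Cfsg.IsPComponent 2 K1 := by
    refine Components.isPComponent_iff.mpr ⟨hK1sub, Components.pElementClosure_self C1, ?_⟩
    exact Components.quasisimple_of_mulEquiv
      ((MulEquiv.subgroupCongr hθ.symm).trans
        ((QuotientGroup.quotientKerEquivRange θ).symm.trans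
          (QuotientGroup.quotientMulEquivOfEq hθker))) hKbc.2
  have hlt' : Nat.card (R ⊓ F : Subgroup X) < Nat.card (R1 ⊓ F : Subgroup X) :=
    (ConjFunctor.card_lt_card_of_lt hlt).trans_le
      (card_le_of_le (le_inf le_sup_right (hW.trans inf_le_left)))
  have hK1F := ih _ (by
    have := card_le_of_le (inf_le_right : R1 ⊓ F ≤ F)
    omega) R1 rfl hR1p K1 hK1c
  rw [← hθ]
  rintro _ ⟨x, rfl⟩
  exact ⟨_, hK1F ⟨(x : Y1), x.2, rfl⟩, rfl⟩

end Cfsg.Agent.Lib.LBalanceTwo
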