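import Cfsg.Agent.Lib.LBalanceTwo.Fusion
import Cfsg.Agent.Lib.ZStar.Final

/-!
A perfect group `K` normalising `L` and centralising a Sylow 2-subgroup of `L`: its 2-elements
centralise `L` modulo `O(L)`.  The proof uses the Z*-theorem.
-/

set_option autoImplicit false

namespace Cfsg.Agent.Lib.LBalanceTwo

open Subgroup ConjFunctor

universe u

variable {X : Type u} [Group X] [Finite X]

theorem eq_zero_of_odd_two_pow {k : ℕ} (h : Odd (2 ^ k)) : k = 0 := by
  by_contra hk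
  exact Nat.not_even_iff_odd.mpr h (Nat.even_pow.mpr ⟨even_two, hk⟩)

omit [Finite X] in
theorem mem_normalizer_inf {A B : Subgroup X} {y : X} (hA : y ∈ normalizer (A : Set X))
    (hB : y ∈ normalizer (B : Set X)) : y ∈ normalizer ((A ⊓ B : Subgroup X) : Set X) := by
  rw [mem_normalizer_iff_cj] at hA hB ⊢
  rw [cj_inf, hA, hB]

theorem eq_one_of_odd_of_isPGroup {H : Subgroup X} (hH : IsPGroup 2 H) {x : X} (hx : x ∈ H)
    (ho : Odd (orderOf x)) : x = 1 := by
  obtain ⟨k, hk⟩ := IsPGroup.iff_orderOf.mp hH ⟨x, hx⟩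
  rw [orderOf_mk] at hk
  rw [← orderOf_eq_one_iff, hk]
  rw [hk] at ho
  rw [eq_zero_of_odd_two_pow ho, pow_zero]

/-- `[m, r]` has odd order when `m` normalises a centric `U ≤ S` and `r` lies in the perfect
group `K` centralising `S`. -/
theorem odd_orderOf_commutator {L K S U : Subgroup X} (hKL : K ≤ normalizer (L : Set X))
    (hK : ⁅K, K⁆ = K) (hcent : K ≤ centralizer (S : Set X)) (hSL : S ≤ L) (hS : IsPGroup 2 S)
    (hUS : U ≤ S) (hZU : S ⊓ centralizer (U : Set X) ≤ U)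
    (hi : ¬ 2 ∣ (S ⊓ centralizer (U : Set X)).relIndex (L ⊓ centralizer (U : Set X)))
    {m : X} (hm : m ∈ L) (hmU : m ∈ normalizer (U : Set X)) {r : X} (hr : r ∈ K) :
    Odd (orderOf (m * r * m⁻¹ * r⁻¹)) := by
  haveI : Fact (Nat.Prime 2) := ⟨Nat.prime_two⟩
  set C := L ⊓ centralizer (U : Set X) with hC
  set Z := S ⊓ centralizer (U : Set X) with hZ
  have hZC : Z ≤ C := inf_le_inf_right _ hSL
  let PZ : Sylow 2 C := ((hS.to_le (inf_le_left : Z ≤ S)).comap_subtype (K := C)).toSylow hi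
  have hmem : ∀ z : C, z ∈ PZ ↔ (z : X) ∈ Z := fun z => Iff.rfl
  have hPc : ∀ z : C, z ∈ PZ → ∀ y : C, z * y = y * z := fun z hz y => Subtype.ext
    (mem_centralizer_iff.mp y.2.2 _ (hZU ((hmem z).mp hz)))
  have hP : normalizer ((PZ : Subgroup C) : Set C) ≤ centralizer ((PZ : Subgroup C) : Set C) :=
    fun y _ => mem_centralizer_iff.mpr fun z hz => hPc z hz y
  set φ := MonoidHom.transferSylow PZ hP with hφ
  have hodd : ∀ x : C, Odd (orderOf x) → φ x = 1 := fun x hx => by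
    obtain ⟨k, hk⟩ := IsPGroup.iff_orderOf.mp PZ.2 (φ x)
    have h1 : Odd (orderOf (φ x)) := hx.of_dvd_nat (orderOf_map_dvd φ x)
    rw [hk] at h1
    rw [← orderOf_eq_one_iff, hk, eq_zero_of_odd_two_pow h1, pow_zero]
  have hker : ∀ x : C, φ x = 1 → Odd (orderOf x) := fun x hx => by
    refine (Nat.not_even_iff_odd.mp fun h => ?_)
    exact MonoidHom.not_dvd_card_ker_transferSylow PZ hP
      ((even_iff_two_dvd.mp h).trans (Subgroup.orderOf_dvd_natCard φ.ker (MonoidHom.mem_ker.mpr hx)))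
  have haC : ∀ a ∈ K, ∀ y ∈ C, a * y * a⁻¹ ∈ C := by
    intro a ha y hy
    refine ⟨(mem_normalizer_iff.mp (hKL ha) y).mp hy.1, mem_centralizer_iff.mpr fun u hu => ?_⟩
    have h1 : u * a = a * u := mem_centralizer_iff.mp (hcent ha) u (hUS hu)
    have h2 : u * y = y * u := mem_centralizer_iff.mp hy.2 u hu
    calc u * (a * y * a⁻¹) = u * a * y * a⁻¹ := by group
      _ = a * (u * y) * a⁻¹ := by rw [h1]; group
      _ = a * y * (a⁻¹ * (a * u) * a⁻¹) := by rw [h2]; group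
      _ = a * y * (a⁻¹ * (u * a) * a⁻¹) := by rw [h1]
      _ = a * y * a⁻¹ * u := by group
  have hinv : ∀ (a : X) (ha : a ∈ K) (y : C), φ ⟨a * y * a⁻¹, haC a ha y y.2⟩ = φ y := by
    intro a ha y
    have h1 : y ∈ φ.ker ⊔ (PZ : Subgroup C) :=
      ((MonoidHom.ker_transferSylow_isComplement' PZ hP).sup_eq_top).ge (mem_top y)
    obtain ⟨o, ho, z, hz, rfl⟩ := mem_sup_of_normal_left.mp h1
    have hoo : φ ⟨a * o * a⁻¹, haC a ha o o.2⟩ = 1 := hodd _ (by
      rw [orderOf_mk, show a * (o : X) * a⁻¹ = MulAut.conj a (o : X) from rfl,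
        MulEquiv.orderOf_eq, orderOf_coe]
      exact hker o ho)
    have hzz : (⟨a * z * a⁻¹, haC a ha z z.2⟩ : C) = z := Subtype.ext (by
      show a * (z : X) * a⁻¹ = z
      rw [← mem_centralizer_iff.mp (hcent ha) _ ((hmem z).mp hz).1, mul_inv_cancel_right])
    have hsplit : (⟨a * (o * z : C) * a⁻¹, haC a ha _ (o * z).2⟩ : C) =
        ⟨a * o * a⁻¹, haC a ha o o.2⟩ * ⟨a * z * a⁻¹, haC a ha z z.2⟩ := Subtype.ext (by
      show a * ((o : X) * (z : X)) * a⁻¹ = a * o * a⁻¹ * (a * z * a⁻¹)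
      group)
    rw [hsplit, map_mul, hoo, hzz, map_mul, MonoidHom.mem_ker.mp ho]
  have hmC : ∀ a ∈ K, m * a * m⁻¹ * a⁻¹ ∈ C := by
    intro a ha
    refine ⟨?_, mem_centralizer_iff.mpr fun u hu => ?_⟩
    · rw [show m * a * m⁻¹ * a⁻¹ = m * (a * m⁻¹ * a⁻¹) by group]
      exact L.mul_mem hm ((mem_normalizer_iff.mp (hKL ha) _).mp (L.inv_mem hm))
    · have hv : m⁻¹ * u * m ∈ U := (mem_normalizer_iff''.mp hmU u).mp hu
      have h1 : u * a = a * u := mem_centralizer_iff.mp (hcent ha) u (hUS hu)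
      have h2 : m⁻¹ * u * m * a = a * (m⁻¹ * u * m) :=
        mem_centralizer_iff.mp (hcent ha) _ (hUS hv)
      have h3 : u * a⁻¹ = a⁻¹ * u := (Commute.inv_right (h1 : Commute u a)).eq
      calc u * (m * a * m⁻¹ * a⁻¹) = m * (m⁻¹ * u * m * a) * m⁻¹ * a⁻¹ := by group
        _ = m * a * m⁻¹ * (u * a⁻¹) := by rw [h2]; group
        _ = _ := by rw [h3]; group
  let f : K →* (PZ : Subgroup C) :=
    MonoidHom.mk' (fun a => φ ⟨m * a * m⁻¹ * (a : X)⁻¹, hmC a a.2⟩) fun a b => by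
      have h : (⟨m * (a * b : K) * m⁻¹ * ((a * b : K) : X)⁻¹, hmC _ (a * b).2⟩ : C) =
          ⟨m * a * m⁻¹ * (a : X)⁻¹, hmC a a.2⟩ *
            ⟨a * (⟨m * b * m⁻¹ * (b : X)⁻¹, hmC b b.2⟩ : C) * (a : X)⁻¹, haC a a.2 _ (hmC b b.2)⟩ :=
        Subtype.ext (by
          show m * ((a : X) * b) * m⁻¹ * ((a : X) * b)⁻¹ =
            m * a * m⁻¹ * (a : X)⁻¹ * (a * (m * b * m⁻¹ * (b : X)⁻¹) * (a : X)⁻¹)
          group)
      rw [h, map_mul, hinv _ a.2]
  have hf : commutator K ≤ f.ker := by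
    rw [_root_.commutator_def, commutator_le]
    intro a _ b _
    rw [MonoidHom.mem_ker, map_commutatorElement, commutatorElement_eq_one_iff_mul_comm]
    exact Subtype.ext (hPc _ (f a).2 _)
  rw [(Subgroup.isPerfect_iff.mpr hK).commutator_eq_top] at hf
  have h := hker _ (MonoidHom.mem_ker.mp (hf (mem_top (⟨r, hr⟩ : K))))
  rwa [orderOf_mk] at h

variable {G : Type u} [Group G] [Finite G]

/-- The abstract form of `commutator_mem_oddCore`. -/
theorem commutator_mem_oddCore_of_step (P : Sylow 2 G) {L : Subgroup G} [L.Normal] {q : G}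
    (hq : q ∈ P) (hqc : ∀ x ∈ P, x * q = q * x) (hG : ∀ x : G, ∃ l ∈ L, ∃ i : ℤ, x = l * q ^ i)
    (hstep : ∀ U : Subgroup G, U ≤ (P : Subgroup G) ⊓ L →
      (P : Subgroup G) ⊓ L ⊓ centralizer (U : Set G) ≤ U →
      ¬ 2 ∣ ((P : Subgroup G) ⊓ L ⊓ centralizer (U : Set G)).relIndex
        (L ⊓ centralizer (U : Set G)) →
      ∀ m ∈ L, m ∈ normalizer (U : Set G) → ∀ r ∈ zpowers q, Odd (orderOf (m * r * m⁻¹ * r⁻¹)))
    (g : G) : q * g * q⁻¹ * g⁻¹ ∈ Cfsg.oddCore G := by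
  haveI : Fact (Nat.Prime 2) := ⟨Nat.prime_two⟩
  refine ZStar.commutator_mem_oddCore_of_isolated ZStar.zStar _ G rfl P q hq (fun k x hx => ?_) g
  refine isolated_of_centric P (pow_mem hq k) ?_ hx
  intro T hTP hrT hfn hCT x hxT
  have hqT : q ∈ T := hCT ⟨hq, mem_centralizer_iff.mpr fun t ht => hqc t (hTP ht)⟩
  have hqP : ∀ i : ℤ, ∀ y ∈ P, y * q ^ i = q ^ i * y := fun i y hy =>
    (Commute.zpow_right (hqc y hy : Commute y q) i).eq
  set U := T ⊓ L with hU
  set Z := (P : Subgroup G) ⊓ L ⊓ centralizer (U : Set G) with hZ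
  set C := L ⊓ centralizer (U : Set G) with hC
  have hZU : Z ≤ U := by
    intro z hz
    refine ⟨hCT ⟨hz.1.1, mem_centralizer_iff.mpr fun t ht => ?_⟩, hz.1.2⟩
    obtain ⟨l, hl, i, rfl⟩ := hG t
    have hlU : l ∈ U := ⟨by
      rw [show l = l * q ^ i * (q ^ i)⁻¹ by group]
      exact T.mul_mem ht (T.inv_mem (T.zpow_mem hqT i)), hl⟩
    have h1 : l * z = z * l := mem_centralizer_iff.mp hz.2 l hlU
    rw [mul_assoc, ← hqP i z hz.1.1, ← mul_assoc, h1, mul_assoc]
  have hNU : normalizer (T : Set G) ≤ normalizer (U : Set G) := fun y hy => by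
    rw [mem_normalizer_iff_cj, hU, cj_inf, mem_normalizer_iff_cj.mp hy,
      mem_normalizer_iff_cj.mp (show y ∈ normalizer (L : Set G) by simp [normalizer_eq_top])]
  have hNC : normalizer (T : Set G) ≤ normalizer (C : Set G) := fun y hy => by
    rw [mem_normalizer_iff_cj, hC, cj_inf,
      mem_normalizer_iff_cj.mp (KBalance.mem_normalizer_of_centralizer (hNU hy)),
      mem_normalizer_iff_cj.mp (show y ∈ normalizer (L : Set G) by simp [normalizer_eq_top])]
  have hZT : Z ≤ T := hZU.trans inf_le_left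
  have hTC : T ⊓ C = Z := le_antisymm (fun t ht => ⟨⟨hTP ht.1, ht.2.1⟩, ht.2.2⟩)
    fun z hz => ⟨hZT hz, hz.1.2, hz.2⟩
  have hZi : ¬ 2 ∣ Z.relIndex C := by
    intro hdvd
    have hT2 : IsPGroup 2 T := P.2.to_le hTP
    have hTH : 2 ∣ T.relIndex (T ⊔ C) := by
      by_contra h
      refine not_dvd_relIndex_of_normalized le_sup_left hT2 h le_sup_right
        (sup_le (le_normalizer.trans hNC) le_normalizer) ?_
      rwa [← inf_relIndex_right, hTC]
    obtain ⟨W, hWH, hW, hTW, hWN⟩ := exists_gt_normalized le_sup_left hT2 hTH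
    obtain ⟨w, hw, hwT⟩ := SetLike.exists_of_lt hTW
    have hmem : w ∈ ((T ⊔ C : Subgroup G) : Set G) := hWH hw
    rw [coe_mul_of_left_le_normalizer_right T C (le_normalizer.trans hNC)] at hmem
    obtain ⟨t, ht, c, hc, htc⟩ := hmem
    have hZeq : Z = W ⊓ C := by
      refine eq_of_sylow_le (H := C ⊓ normalizer (T : Set G))
        (le_inf inf_le_right (inf_le_left.trans hWN)) (hW.to_le inf_le_left)
        (le_inf (hZT.trans hTW.le) (inf_le_inf_right _ inf_le_right)) ?_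
      have := not_dvd_relIndex_of_normalized
        (inf_le_right : (P : Subgroup G) ⊓ normalizer (T : Set G) ≤ normalizer (T : Set G))
        (P.2.to_le inf_le_left) hfn (inf_le_right : C ⊓ normalizer (T : Set G) ≤ _)
        (fun y hy => mem_normalizer_inf (hNC hy) (le_normalizer hy))
      rw [← inf_relIndex_right] at this ⊢
      rwa [show (P : Subgroup G) ⊓ normalizer (T : Set G) ⊓ (C ⊓ normalizer (T : Set G)) =
        Z ⊓ (C ⊓ normalizer (T : Set G)) from le_antisymm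
          (fun y hy => ⟨⟨⟨hy.1.1, hy.2.1.1⟩, hy.2.1.2⟩, hy.2⟩)
          (fun y hy => ⟨⟨hy.1.1.1, hy.2.2⟩, hy.2⟩)] at this
    refine hwT (htc ▸ T.mul_mem ht (hZT ?_))
    rw [hZeq]
    refine ⟨?_, hc⟩
    rw [show c = t⁻¹ * w by rw [← htc]; group]
    exact W.mul_mem (W.inv_mem (hTW.le ht)) hw
  obtain ⟨m, hm, i, rfl⟩ := hG x
  have hmT : m ∈ normalizer (T : Set G) := by
    rw [show m = m * q ^ i * (q ^ i)⁻¹ by group]
    exact mul_mem hxT (inv_mem (le_normalizer (T.zpow_mem hqT i)))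
  have hodd := hstep U (inf_le_inf_right L hTP) hZU hZi m hm (hNU hmT) (q ^ k)
    (pow_mem (mem_zpowers q) k)
  have hin : m * q ^ k * m⁻¹ * (q ^ k)⁻¹ ∈ T :=
    T.mul_mem ((mem_normalizer_iff.mp hmT _).mp hrT) (T.inv_mem hrT)
  have h1 := eq_one_of_odd_of_isPGroup (P.2.to_le hTP) hin hodd
  rw [mul_inv_eq_one] at h1
  have h2 : Commute (q ^ i) (q ^ k) := ((Commute.refl q).zpow_left i).pow_right k
  calc m * q ^ i * q ^ k * (m * q ^ i)⁻¹ = m * (q ^ i * q ^ k * (q ^ i)⁻¹) * m⁻¹ := by group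
    _ = q ^ k := by rw [h2.eq, mul_inv_cancel_right, h1]

/-- If `K` is perfect, normalises `L` and centralises a Sylow 2-subgroup of `L`, then each
2-element `q` of `K` satisfies `[q, L] ≤ O(L)`. -/
theorem commutator_mem_coreIn {L K S : Subgroup X} (hKL : K ≤ normalizer (L : Set X))
    (hK : ⁅K, K⁆ = K) (hcent : K ≤ centralizer (S : Set X)) (hSL : S ≤ L) (hS : IsPGroup 2 S)
    (hi : ¬ 2 ∣ S.relIndex L) {q : X} (hq : q ∈ K) {k : ℕ} (hqk : orderOf q = 2 ^ k)
    {l : X} (hl : l ∈ L) : q * l * q⁻¹ * l⁻¹ ∈ KBalance.coreIn 2 L := by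
  haveI : Fact (Nat.Prime 2) := ⟨Nat.prime_two⟩
  set G1 := L ⊔ zpowers q with hG1
  have hQL : zpowers q ≤ normalizer (L : Set X) := zpowers_le.mpr (hKL hq)
  have hLG : L ≤ G1 := le_sup_left
  have hqG : q ∈ G1 := mem_sup_right (mem_zpowers q)
  have hGN : G1 ≤ normalizer (L : Set X) := sup_le le_normalizer hQL
  haveI : (L.subgroupOf G1).Normal := normal_subgroupOf_of_le_normalizer hGN
  have hqS : zpowers q ≤ centralizer (S : Set X) := zpowers_le.mpr (hcent hq)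
  set P1 := S ⊔ zpowers q with hP1
  have hP1G : P1 ≤ G1 := sup_le_sup_right hSL _
  have hQp : IsPGroup 2 (zpowers q) := by
    refine IsPGroup.of_card (n := k) ?_
    rw [Nat.card_zpowers, hqk]
  have hP1p : IsPGroup 2 P1 := hS.to_sup_of_normal_left' hQp
    (hqS.trans (Components.centralizer_le_normalizer_self S))
  obtain ⟨P0, hP0⟩ := (hP1p.comap_subtype (K := G1)).exists_le_sylow
  set P0X := (P0 : Subgroup G1).map G1.subtype with hP0X
  have hP10 : P1 ≤ P0X := fun y hy => ⟨⟨y, hP1G hy⟩, hP0 hy, rfl⟩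
  have hP0L : P0X ⊓ L = S := le_antisymm
    (ConjFunctor.eq_of_sylow_le inf_le_right ((P0.2.map _).to_le inf_le_left)
      (le_inf (le_sup_left.trans hP10) hSL) hi).ge (le_inf (le_sup_left.trans hP10) hSL)
  have hdecX : ∀ y ∈ G1, ∃ l ∈ L, ∃ i : ℤ, y = l * q ^ i := by
    intro y hy
    have h : y ∈ ((L ⊔ zpowers q : Subgroup X) : Set X) := hy
    rw [coe_mul_of_right_le_normalizer_left L (zpowers q) hQL] at h
    obtain ⟨l, hl, z, hz, rfl⟩ := h
    obtain ⟨i, rfl⟩ := mem_zpowers_iff.mp hz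
    exact ⟨l, hl, i, rfl⟩
  have hqP : (⟨q, hqG⟩ : G1) ∈ P0 := hP0 (mem_sup_right (mem_zpowers q) : q ∈ P1)
  have hqc : ∀ y ∈ P0, y * (⟨q, hqG⟩ : G1) = ⟨q, hqG⟩ * y := by
    intro y hy
    apply Subtype.ext
    show (y : X) * q = q * (y : X)
    obtain ⟨l, hl, i, hli⟩ := hdecX y y.2
    have hlS : l ∈ S := by
      rw [← hP0L]
      refine ⟨?_, hl⟩
      rw [show l = (y : X) * (q ^ i)⁻¹ by rw [hli]; group]
      exact P0X.mul_mem ⟨y, hy, rfl⟩ (P0X.inv_mem (hP10 (mem_sup_right (Subgroup.zpow_mem _ (mem_zpowers q) i))))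
    have h1 : Commute l q := mem_centralizer_iff.mp (hcent hq) l hlS
    rw [hli]
    exact (h1.mul_left ((Commute.refl q).zpow_left i)).eq
  have hG : ∀ y : G1, ∃ l ∈ L.subgroupOf G1, ∃ i : ℤ, y = l * (⟨q, hqG⟩ : G1) ^ i := by
    intro y
    obtain ⟨l, hl, i, hli⟩ := hdecX y y.2
    exact ⟨⟨l, hLG hl⟩, mem_subgroupOf.mpr hl, i, Subtype.ext (by simpa using hli)⟩
  have hSmap : ((P0 : Subgroup G1) ⊓ L.subgroupOf G1).map G1.subtype = S := by
    rw [map_inf _ _ _ G1.subtype_injective, map_subgroupOf_eq_of_le hLG, hP0L]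
  have h0 := commutator_mem_oddCore_of_step P0 hqP hqc hG ?_ ⟨l, hLG hl⟩
  · set O1 := KBalance.coreIn 2 G1 with hO1
    have hmem : q * l * q⁻¹ * l⁻¹ ∈ O1 ⊓ L := ⟨⟨_, h0, rfl⟩, by
      rw [show q * l * q⁻¹ * l⁻¹ = (q * l * q⁻¹) * l⁻¹ by group]
      exact L.mul_mem ((mem_normalizer_iff.mp (hKL hq) l).mp hl) (L.inv_mem hl)⟩
    refine KBalance.le_coreIn (p := 2) inf_le_right ?_
      (PSolvable.coprime_of_le inf_le_left (KBalance.coprime_coreIn G1)) hmem
    exact fun y hy => mem_normalizer_inf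
      (KBalance.normalizer_le_normalizer_coreIn G1 (le_normalizer (hLG hy))) (le_normalizer hy)
  intro U hU hZU hZi m hm hmU r hr
  have hUX : U.map G1.subtype ≤ S := hSmap ▸ map_mono hU
  have hcen : ∀ A : Subgroup G1, (centralizer (A : Set G1)).map G1.subtype =
      centralizer ((A.map G1.subtype : Subgroup X) : Set X) ⊓ G1 := by
    intro A
    ext y
    constructor
    · rintro ⟨y, hy, rfl⟩
      refine ⟨mem_centralizer_iff.mpr ?_, y.2⟩
      rintro _ ⟨a, ha, rfl⟩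
      exact congrArg Subtype.val (mem_centralizer_iff.mp hy a ha)
    · rintro ⟨hy, hyG⟩
      exact ⟨⟨y, hyG⟩, mem_centralizer_iff.mpr fun a ha =>
        Subtype.ext (mem_centralizer_iff.mp hy (a : X) ⟨a, ha, rfl⟩), rfl⟩
  have hinj := G1.subtype_injective
  have e1 : ((P0 : Subgroup G1) ⊓ L.subgroupOf G1 ⊓ centralizer (U : Set G1)).map G1.subtype =
      S ⊓ centralizer ((U.map G1.subtype : Subgroup X) : Set X) := by
    rw [map_inf _ _ _ hinj, hSmap, hcen]
    exact le_antisymm (inf_le_inf_left _ inf_le_left)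
      (le_inf inf_le_left (le_inf inf_le_right (inf_le_left.trans (hSL.trans hLG))))
  have e2 : (L.subgroupOf G1 ⊓ centralizer (U : Set G1)).map G1.subtype =
      L ⊓ centralizer ((U.map G1.subtype : Subgroup X) : Set X) := by
    rw [map_inf _ _ _ hinj, map_subgroupOf_eq_of_le hLG, hcen]
    exact le_antisymm (inf_le_inf_left _ inf_le_left)
      (le_inf inf_le_left (le_inf inf_le_right (inf_le_left.trans hLG)))
  have hrK : (r : X) ∈ K := by
    obtain ⟨i, rfl⟩ := mem_zpowers_iff.mp hr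
    simpa using zpow_mem hq i
  have h := odd_orderOf_commutator (U := U.map G1.subtype) hKL hK hcent hSL hS hUX
    (e1 ▸ map_mono hZU)
    (by rwa [← e1, ← e2, relIndex_map_map_of_injective _ _ hinj])
    (m := (m : X)) hm (le_normalizer_map G1.subtype ⟨m, hmU, rfl⟩) hrK
  rw [← orderOf_coe]
  simpa using h

end Cfsg.Agent.Lib.LBalanceTwo
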